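import Mathlib
import Cfsg.Agent.Helper2.Stb.CExt

set_option autoImplicit false

/-! S2086 (Schur multiplier of `PSL_n(q)`): shared definitions.
Abstract Steinberg datum of type `A_{n-1}` in a group `G` (root elements `T a t`, torus elements
`D h`), commutators of lifts in a central extension `ψ : E → G`, the predicate `CL` ("all lifts
commute") and the canonical lifts `X a t`. -/

namespace Cfsg.Agent.S2086P

open scoped commutatorElement
open Cfsg.Agent.Helper2.Stb

/-- roots of type `A_{n-1}`: ordered pairs of distinct indices -/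
abbrev Root (n : ℕ) : Type := {ij : Fin n × Fin n // ij.1 ≠ ij.2}

/-- the root `(i, j)` -/
def rt {n : ℕ} (i j : Fin n) (h : i ≠ j) : Root n := ⟨(i, j), h⟩

@[simp] theorem rt_fst {n : ℕ} (i j : Fin n) (h : i ≠ j) : (rt i j h).1.1 = i := rfl
@[simp] theorem rt_snd {n : ℕ} (i j : Fin n) (h : i ≠ j) : (rt i j h).1.2 = j := rfl

/-- the torus parameters: `n` units with product one -/
def torSub (n : ℕ) (K : Type*) [Field K] : Subgroup (Fin n → Kˣ) where
  carrier := {h | ∏ i, h i = 1}
  one_mem' := by simp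
  mul_mem' := by
    intro a b ha hb
    show ∏ i, (a * b) i = 1
    simp only [Pi.mul_apply, Finset.prod_mul_distrib]
    rw [show ∏ i, a i = 1 from ha, show ∏ i, b i = 1 from hb, mul_one]
  inv_mem' := by
    intro a ha
    show ∏ i, (a⁻¹) i = 1
    simp only [Pi.inv_apply, Finset.prod_inv_distrib]
    rw [show ∏ i, a i = 1 from ha, inv_one]

abbrev Tor (n : ℕ) (K : Type*) [Field K] : Type _ := ↥(torSub n K)

/-- the ratio `h_i / h_j` by which `h` scales the root `(i, j)` -/
def rat {n : ℕ} {K : Type*} [Field K] (h : Tor n K) (a : Root n) : K :=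
  ((h.1 a.1.1 : Kˣ) : K) * (((h.1 a.1.2 : Kˣ) : K))⁻¹

/-- the torus element with `h_i = a`, `h_j = a⁻¹` and all other entries `1` -/
def tor2 {n : ℕ} {K : Type*} [Field K] (i j : Fin n) (hij : i ≠ j) (a : Kˣ) : Tor n K :=
  ⟨fun x => if x = i then a else if x = j then a⁻¹ else 1, by
    show ∏ x, (if x = i then a else if x = j then a⁻¹ else 1) = 1
    rw [Finset.prod_eq_mul_of_mem i j (Finset.mem_univ _) (Finset.mem_univ _) hij]
    · rw [if_pos rfl, if_neg (Ne.symm hij), if_pos rfl, mul_inv_cancel]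
    · intro c _ hc
      rw [if_neg hc.1, if_neg hc.2]⟩

theorem tor2_apply {n : ℕ} {K : Type*} [Field K] (i j : Fin n) (hij : i ≠ j) (a : Kˣ) (x : Fin n) :
    (tor2 i j hij a).1 x = if x = i then a else if x = j then a⁻¹ else 1 := rfl

theorem tor_mul_apply {n : ℕ} {K : Type*} [Field K] (h h' : Tor n K) (x : Fin n) :
    (h * h').1 x = h.1 x * h'.1 x := rfl

/-- Steinberg datum of type `A_{n-1}` over `K` in the group `G` -/
structure StD (n : ℕ) (K : Type*) [Field K] (G : Type*) [Group G] where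
  T : Root n → K → G
  D : Tor n K → G
  add : ∀ (a : Root n) (t u : K), T a t * T a u = T a (t + u)
  comm : ∀ (a b : Root n) (t u : K), a.1.1 ≠ b.1.2 → a.1.2 ≠ b.1.1 → Commute (T a t) (T b u)
  chev : ∀ (a b : Root n) (h : a.1.1 ≠ b.1.2) (t u : K), a.1.2 = b.1.1 →
    ⁅T a t, T b u⁆ = T ⟨(a.1.1, b.1.2), h⟩ (t * u)
  conj : ∀ (h : Tor n K) (a : Root n) (t : K), D h * T a t * (D h)⁻¹ = T a (rat h a * t)
  dcomm : ∀ h h' : Tor n K, Commute (D h) (D h')

variable {n : ℕ} {K : Type*} [Field K] {G : Type*} [Group G] {E : Type*} [Group E]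

theorem StD.T_zero (S : StD n K G) (a : Root n) : S.T a 0 = 1 := by
  have h := S.add a 0 0
  rw [add_zero] at h
  exact mul_eq_left.mp h

theorem StD.T_neg (S : StD n K G) (a : Root n) (t : K) : S.T a (-t) = (S.T a t)⁻¹ := by
  apply eq_inv_of_mul_eq_one_left
  rw [S.add, neg_add_cancel, S.T_zero]

/-- the Chevalley relation for explicit indices -/
theorem StD.chev' (S : StD n K G) (i j k : Fin n) (hij : i ≠ j) (hjk : j ≠ k) (hik : i ≠ k)
    (t u : K) : ⁅S.T (rt i j hij) t, S.T (rt j k hjk) u⁆ = S.T (rt i k hik) (t * u) :=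
  S.chev (rt i j hij) (rt j k hjk) hik t u rfl

/-- a torus element whose ratio on `a` is `c` turns `T a u` into a commutator -/
theorem StD.comm_D (S : StD n K G) (h : Tor n K) (a : Root n) (u : K) :
    ⁅S.D h, S.T a u⁆ = S.T a ((rat h a - 1) * u) := by
  rw [commutatorElement_def, S.conj, ← S.T_neg, S.add]
  congr 1
  ring

/-- all lifts of `g` and `g'` commute -/
def CL (ψ : E →* G) (g g' : G) : Prop := ∀ e e' : E, ψ e = g → ψ e' = g' → Commute e e'

theorem CL.symm {ψ : E →* G} {g g' : G} (h : CL ψ g g') : CL ψ g' g :=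
  fun e e' he he' => (h e' e he' he).symm

/-- the canonical commutator of lifts -/
noncomputable def cl (ψ : E →* G) (hψ : Function.Surjective ψ) (g g' : G) : E :=
  ⁅Function.surjInv hψ g, Function.surjInv hψ g'⁆

section
variable (ψ : E →* G) (hψ : Function.Surjective ψ) (hc : ψ.ker ≤ Subgroup.center E)

theorem map_cl (g g' : G) : ψ (cl ψ hψ g g') = ⁅g, g'⁆ := by
  unfold cl
  rw [map_commutatorElement, Function.surjInv_eq hψ, Function.surjInv_eq hψ]

include hc

/-- the commutator of any two lifts is the canonical one -/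
theorem cl_eq {g g' : G} {e e' : E} (he : ψ e = g) (he' : ψ e' = g') :
    ⁅e, e'⁆ = cl ψ hψ g g' := by
  unfold cl
  apply comm_eq_of_map_eq ψ hc
  · rw [he, Function.surjInv_eq hψ]
  · rw [he', Function.surjInv_eq hψ]

/-- `w` commutes with `⁅a, b⁆` if its image commutes with the images of `a` and `b` -/
theorem commute_comm {w a b : E} (h1 : Commute (ψ w) (ψ a)) (h2 : Commute (ψ w) (ψ b)) :
    Commute w ⁅a, b⁆ := by
  have z1 : ⁅w, a⁆ ∈ Subgroup.center E := comm_mem_center_of_map ψ hc h1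
  have z2 : ⁅w, b⁆ ∈ Subgroup.center E := comm_mem_center_of_map ψ hc h2
  have e1 : w * a * w⁻¹ = ⁅w, a⁆ * a := by rw [commutatorElement_def]; group
  have e2 : w * b * w⁻¹ = ⁅w, b⁆ * b := by rw [commutatorElement_def]; group
  have key : w * ⁅a, b⁆ * w⁻¹ = ⁅a, b⁆ := by
    have : w * ⁅a, b⁆ * w⁻¹ = ⁅w * a * w⁻¹, w * b * w⁻¹⁆ := by
      simp only [commutatorElement_def]; group
    rw [this, e1, e2, comm_mul_central_left z1, comm_mul_central_right z2]
  show w * ⁅a, b⁆ = ⁅a, b⁆ * w
  calc w * ⁅a, b⁆ = (w * ⁅a, b⁆ * w⁻¹) * w := by group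
    _ = ⁅a, b⁆ * w := by rw [key]

include hψ

/-- if `u` commutes with `g₁` and `g₂` then all lifts of `u` and of `⁅g₁, g₂⁆` commute -/
theorem CL_of_comm {u g₁ g₂ : G} (h1 : Commute u g₁) (h2 : Commute u g₂) : CL ψ u ⁅g₁, g₂⁆ := by
  intro e e' he he'
  obtain ⟨a, ha⟩ := hψ g₁
  obtain ⟨b, hb⟩ := hψ g₂
  have hk : e' * ⁅a, b⁆⁻¹ ∈ ψ.ker := by
    rw [MonoidHom.mem_ker, map_mul, map_inv, map_commutatorElement, ha, hb, he', mul_inv_cancel]
  have hz := hc hk
  have h3 : Commute e ⁅a, b⁆ := commute_comm ψ hc (by rw [he, ha]; exact h1) (by rw [he, hb]; exact h2)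
  have h4 : Commute e (e' * ⁅a, b⁆⁻¹) := (Subgroup.mem_center_iff.mp hz e)
  have : e' = (e' * ⁅a, b⁆⁻¹) * ⁅a, b⁆ := by group
  rw [this]
  exact h4.mul_right h3

end

/-- a third index -/
theorem exists_third (hn : 3 ≤ n) (a : Root n) : ∃ k : Fin n, a.1.1 ≠ k ∧ k ≠ a.1.2 := by
  by_contra hcon
  push Not at hcon
  have key : ∀ k : Fin n, a.1.1.val = k.val ∨ k.val = a.1.2.val := by
    intro k
    by_cases h : a.1.1 = k
    · left; rw [h]
    · right; rw [hcon k h]
  have h0 := key ⟨0, by omega⟩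
  have h1 := key ⟨1, by omega⟩
  have h2 := key ⟨2, by omega⟩
  simp only at h0 h1 h2
  omega

/-- a fourth index -/
theorem exists_fourth (hn : 4 ≤ n) (i j k : Fin n) : ∃ m : Fin n, m ≠ i ∧ m ≠ j ∧ m ≠ k := by
  by_contra hcon
  push Not at hcon
  have key : ∀ m : Fin n, m.val = i.val ∨ m.val = j.val ∨ m.val = k.val := by
    intro m
    by_cases h1 : m = i
    · left; rw [h1]
    · by_cases h2 : m = j
      · right; left; rw [h2]
      · right; right; rw [hcon m h1 h2]
  have h0 := key ⟨0, by omega⟩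
  have h1 := key ⟨1, by omega⟩
  have h2 := key ⟨2, by omega⟩
  have h3 := key ⟨3, by omega⟩
  simp only at h0 h1 h2 h3
  omega

/-- a fifth index -/
theorem exists_fifth (hn : 5 ≤ n) (i j k l : Fin n) :
    ∃ m : Fin n, m ≠ i ∧ m ≠ j ∧ m ≠ k ∧ m ≠ l := by
  by_contra hcon
  push Not at hcon
  have key : ∀ m : Fin n, m.val = i.val ∨ m.val = j.val ∨ m.val = k.val ∨ m.val = l.val := by
    intro m
    by_cases h1 : m = i
    · left; rw [h1]
    · by_cases h2 : m = j
      · right; left; rw [h2]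
      · by_cases h3 : m = k
        · right; right; left; rw [h3]
        · right; right; right; rw [hcon m h1 h2 h3]
  have h0 := key ⟨0, by omega⟩
  have h1 := key ⟨1, by omega⟩
  have h2 := key ⟨2, by omega⟩
  have h3 := key ⟨3, by omega⟩
  have h4 := key ⟨4, by omega⟩
  simp only at h0 h1 h2 h3 h4
  omega

/-- the chosen third index of a root -/
noncomputable def third (hn : 3 ≤ n) (a : Root n) : Fin n := Classical.choose (exists_third hn a)

theorem third_ne_fst (hn : 3 ≤ n) (a : Root n) : a.1.1 ≠ third hn a :=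
  (Classical.choose_spec (exists_third hn a)).1

theorem third_ne_snd (hn : 3 ≤ n) (a : Root n) : third hn a ≠ a.1.2 :=
  (Classical.choose_spec (exists_third hn a)).2

/-- the canonical lift of the root element `T a t` -/
noncomputable def X (S : StD n K G) (ψ : E →* G) (hψ : Function.Surjective ψ) (hn : 3 ≤ n)
    (a : Root n) (t : K) : E :=
  cl ψ hψ (S.T (rt a.1.1 (third hn a) (third_ne_fst hn a)) t)
    (S.T (rt (third hn a) a.1.2 (third_ne_snd hn a)) 1)

theorem map_X (S : StD n K G) (ψ : E →* G) (hψ : Function.Surjective ψ) (hn : 3 ≤ n)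
    (a : Root n) (t : K) : ψ (X S ψ hψ hn a t) = S.T a t := by
  unfold X
  rw [map_cl, S.chev' a.1.1 (third hn a) a.1.2 _ _ a.2, mul_one]
  rfl

end Cfsg.Agent.S2086P
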