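import Mathlib
import Cfsg.Prelude.Def_KGroupFacts
import Cfsg.Agent.Helper2.PSLM.Defs
import Cfsg.Agent.Helper6.PSLMMAT
import Cfsg.Agent.Helper11.PSLMCENTER
import Cfsg.Agent.Helper11.PSLMN2
import Cfsg.Agent.Helper13.PSLMC2A
import Cfsg.Agent.Helper13.PSLMI4
import Cfsg.Agent.Helper18.PSLMCOL3
import Cfsg.Agent.Helper18.PSLMDISJSQ
import Cfsg.Agent.Helper18.PSLMROW3
import Cfsg.Agent.Helper18.PSLMTORCL
import Cfsg.Agent.Helper26.PSLMCS
import Cfsg.Agent.Helper26.PSLMRS
import Cfsg.Agent.Helper5.PSLMBAL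
import Cfsg.Agent.Helper5.PSLMCUBES
import Cfsg.Agent.Helper5.PSLMNUMB
import Cfsg.Agent.Helper8.PSLMDISJODD
import Cfsg.Agent.S2401
import Cfsg.Agent.Helper11.PSL32Mult
import Cfsg.Agent.Helper2.Transvec

set_option autoImplicit false

/-! S2086: assembly. -/

namespace Cfsg.Agent.S2086P

open scoped commutatorElement
open Cfsg.Agent.Helper2.Stb

variable {n : ℕ} {K : Type*} [Field K] {G : Type*} [Group G] {E : Type*} [Group E]

namespace MAIN

/-- the exceptional pairs -/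
def Exc (n q : ℕ) : Prop := (n = 3 ∧ q = 2) ∨ (n = 3 ∧ q = 4) ∨ (n = 4 ∧ q = 2)

/-- (C2): commuting root elements have commuting lifts -/
theorem c2_all [Fintype K] (S : StD n K G) (ψ : E →* G) (hψ : Function.Surjective ψ)
    (hc : ψ.ker ≤ Subgroup.center E) (hn : 3 ≤ n) (hexc : ¬ Exc n (Fintype.card K))
    (a b : Root n) (t u : K) (h1 : a.1.1 ≠ b.1.2) (h2 : a.1.2 ≠ b.1.1) :
    CL ψ (S.T a t) (S.T b u) := by
  obtain ⟨⟨i, j⟩, hij⟩ := a
  obtain ⟨⟨k, l⟩, hkl⟩ := b
  simp only at hij hkl h1 h2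
  have hrow : ∀ (i j k : Fin n) (hij : i ≠ j) (hik : i ≠ k) (_ : j ≠ k) (s t : K),
      CL ψ (S.T (rt i j hij) s) (S.T (rt i k hik) t) := by
    intro i j k hij hik hjk s t
    by_cases h4 : 4 ≤ n
    · exact cl_row_of_four S ψ hψ hc h4 i j k hij hik hjk s t
    · have hn3 : n = 3 := by omega
      have hq2 : Fintype.card K ≠ 2 := fun h => hexc (Or.inl ⟨hn3, h⟩)
      have hq4 : Fintype.card K ≠ 4 := fun h => hexc (Or.inr (Or.inl ⟨hn3, h⟩))
      obtain ⟨b, hb⟩ := exists_cube_ne_one hq2 hq4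
      exact cl_row_of_cube S ψ hψ hc b hb i j k hij hik hjk s t
  have hcol : ∀ (i j k : Fin n) (hik : i ≠ k) (hjk : j ≠ k) (_ : i ≠ j) (s t : K),
      CL ψ (S.T (rt i k hik) s) (S.T (rt j k hjk) t) := by
    intro i j k hik hjk hij s t
    by_cases h4 : 4 ≤ n
    · exact cl_col_of_four S ψ hψ hc h4 i j k hik hjk hij s t
    · have hn3 : n = 3 := by omega
      have hq2 : Fintype.card K ≠ 2 := fun h => hexc (Or.inl ⟨hn3, h⟩)
      have hq4 : Fintype.card K ≠ 4 := fun h => hexc (Or.inr (Or.inl ⟨hn3, h⟩))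
      obtain ⟨b, hb⟩ := exists_cube_ne_one hq2 hq4
      exact cl_col_of_cube S ψ hψ hc b hb i j k hik hjk hij s t
  by_cases hik : i = k
  · subst hik
    by_cases hjl : j = l
    · subst hjl
      exact cl_same_root S ψ hψ hc hn ⟨(i, j), hij⟩ t u
    · exact hrow i j l hij hkl hjl t u
  · by_cases hjl : j = l
    · subst hjl
      exact hcol i k j hij hkl hik t u
    · -- disjoint roots: four distinct indices
      have h4 : 4 ≤ n := by
        by_contra hlt
        have hn3 : n = 3 := by omega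
        have e1 : i.val ≠ j.val := fun h => hij (Fin.ext h)
        have e2 : k.val ≠ l.val := fun h => hkl (Fin.ext h)
        have e3 : i.val ≠ k.val := fun h => hik (Fin.ext h)
        have e4 : i.val ≠ l.val := fun h => h1 (Fin.ext h)
        have e5 : j.val ≠ k.val := fun h => h2 (Fin.ext h)
        have e6 : j.val ≠ l.val := fun h => hjl (Fin.ext h)
        have := i.2; have := j.2; have := k.2; have := l.2
        omega
      by_cases h5 : 5 ≤ n
      · exact cl_disj_of_five S ψ hψ hc h5 i j k l hij hkl hik h1 h2 hjl t u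
      · have hn4 : n = 4 := by omega
        have hq2 : Fintype.card K ≠ 2 := fun h => hexc (Or.inr (Or.inr ⟨hn4, h⟩))
        by_cases h20 : (2 : K) = 0
        · obtain ⟨a, ha⟩ := exists_sq_ne_one_of_two_eq_zero h20 hq2
          exact cl_disj_of_sq S ψ hψ hc a ha i j k l hij hkl hik h1 h2 hjl t u
        · exact cl_disj_of_odd S ψ hψ hc h20 hrow hcol i j k l hij hkl hik h1 h2 hjl t u

/-- the third index of a root of `A₂` is determined -/
theorem third_eq_of_three (hn : n = 3) (i j l x : Fin n) (hij : i ≠ j) (hjl : j ≠ l) (hil : i ≠ l)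
    (hx1 : i ≠ x) (hx2 : x ≠ l) : x = j := by
  apply Fin.ext
  have e1 : i.val ≠ j.val := fun h => hij (Fin.ext h)
  have e2 : j.val ≠ l.val := fun h => hjl (Fin.ext h)
  have e3 : i.val ≠ l.val := fun h => hil (Fin.ext h)
  have e4 : i.val ≠ x.val := fun h => hx1 (Fin.ext h)
  have e5 : x.val ≠ l.val := fun h => hx2 (Fin.ext h)
  have := i.2; have := j.2; have := l.2; have := x.2
  omega

/-- (R2b) for the canonical lifts -/
theorem X_chev [Fintype K] (S : StD n K G) (ψ : E →* G) (hψ : Function.Surjective ψ)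
    (hc : ψ.ker ≤ Subgroup.center E) (hn : 3 ≤ n) (hexc : ¬ Exc n (Fintype.card K))
    (a b : Root n) (h : a.1.1 ≠ b.1.2) (hab : a.1.2 = b.1.1) (t u : K) :
    ⁅X S ψ hψ hn a t, X S ψ hψ hn b u⁆ = X S ψ hψ hn ⟨(a.1.1, b.1.2), h⟩ (t * u) := by
  have hC2 := fun a b t u h1 h2 => c2_all S ψ hψ hc hn hexc a b t u h1 h2
  obtain ⟨⟨i, j⟩, hij⟩ := a
  obtain ⟨⟨j', l⟩, hjl⟩ := b
  simp only at hij hjl h hab
  subst hab
  rw [cl_eq ψ hψ hc (map_X S ψ hψ hn _ t) (map_X S ψ hψ hn _ u)]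
  set k := third hn (⟨(i, l), h⟩ : Root n) with hk
  have hk1 : i ≠ k := third_ne_fst hn (⟨(i, l), h⟩ : Root n)
  have hk2 : k ≠ l := third_ne_snd hn (⟨(i, l), h⟩ : Root n)
  show cl ψ hψ (S.T (rt i j hij) t) (S.T (rt j l hjl) u) =
    cl ψ hψ (S.T (rt i k hk1) (t * u)) (S.T (rt k l hk2) 1)
  by_cases h4 : 4 ≤ n
  · by_cases hjk : j = k
    · -- go through a fourth index
      obtain ⟨m, hmi, hmj, hml⟩ := exists_fourth h4 i j l
      have e1 := four_index S ψ hψ hc hC2 i j l m hij hjl hmi.symm hml h hmj.symm t u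
      have e2 := four_index S ψ hψ hc hC2 i m l j hmi.symm hml hij hjl h hmj (t * u) 1
      rw [mul_one] at e2
      rw [e1, e2]
      subst hjk
      rfl
    · exact four_index S ψ hψ hc hC2 i j l k hij hjl hk1 hk2 h hjk t u
  · have hn3 : n = 3 := by omega
    have hq2 : Fintype.card K ≠ 2 := fun h => hexc (Or.inl ⟨hn3, h⟩)
    have hq4 : Fintype.card K ≠ 4 := fun h => hexc (Or.inr (Or.inl ⟨hn3, h⟩))
    have hkj : k = j := third_eq_of_three hn3 i j l k hij hjl h hk1 hk2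
    have e1 := cl_balanced S ψ hψ hc hn hq2 hq4 hC2 i j l hij hjl h t u
    rw [e1]
    clear_value k
    subst hkj
    rfl

/-- every surjective central extension of `SL_n(K)` splits -/
theorem exists_section [Fintype K] (hn : 3 ≤ n) (hexc : ¬ Exc n (Fintype.card K))
    (ψ : E →* Matrix.SpecialLinearGroup (Fin n) K) (hψ : Function.Surjective ψ)
    (hc : ψ.ker ≤ Subgroup.center E) :
    ∃ s : Matrix.SpecialLinearGroup (Fin n) K →* E, ∀ g, ψ (s g) = g := by
  classical
  obtain ⟨S, hS⟩ := exists_slD n K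
  obtain ⟨e, he⟩ := Cfsg.Agent.S2401.result (K := K) n hn
  have hC2 := fun a b t u h1 h2 => c2_all S ψ hψ hc hn hexc a b t u h1 h2
  let f : Root n × K → E := fun p => X S ψ hψ hn p.1 p.2
  have hrels : ∀ r ∈ ({g : FreeGroup (Root n × K) | ∃ (a : Root n) (t u : K),
            g = FreeGroup.of (a, t) * FreeGroup.of (a, u) * (FreeGroup.of (a, t + u))⁻¹} ∪
          {g | ∃ (a b : Root n) (t u : K), a.1.1 ≠ b.1.2 ∧ a.1.2 ≠ b.1.1 ∧
            g = FreeGroup.of (a, t) * FreeGroup.of (b, u) * (FreeGroup.of (a, t))⁻¹ * (FreeGroup.of (b, u))⁻¹} ∪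
          {g | ∃ (a b : Root n) (h : a.1.1 ≠ b.1.2) (t u : K), a.1.2 = b.1.1 ∧
            g = FreeGroup.of (a, t) * FreeGroup.of (b, u) * (FreeGroup.of (a, t))⁻¹ * (FreeGroup.of (b, u))⁻¹ *
              (FreeGroup.of (⟨(a.1.1, b.1.2), h⟩, t * u))⁻¹}), FreeGroup.lift f r = 1 := by
    rintro r ((⟨a, t, u, rfl⟩ | ⟨a, b, t, u, h1, h2, rfl⟩) | ⟨a, b, h, t, u, hab, rfl⟩)
    · simp only [map_mul, map_inv, FreeGroup.lift_apply_of, f]
      rw [X_add S ψ hψ hc hn hC2, mul_inv_cancel]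
    · simp only [map_mul, map_inv, FreeGroup.lift_apply_of, f]
      have := hC2 a b t u h1 h2 _ _ (map_X S ψ hψ hn a t) (map_X S ψ hψ hn b u)
      rw [← commutatorElement_def, commutatorElement_eq_one_iff_commute]
      exact this
    · simp only [map_mul, map_inv, FreeGroup.lift_apply_of, f]
      rw [← commutatorElement_def, X_chev S ψ hψ hc hn hexc a b h hab t u, mul_inv_cancel]
  let s' := PresentedGroup.toGroup hrels
  have hcomp : ψ.comp s' = e.toMonoidHom := by
    apply PresentedGroup.ext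
    intro p
    obtain ⟨a, t⟩ := p
    rw [MonoidHom.comp_apply, PresentedGroup.toGroup.of]
    show ψ (X S ψ hψ hn a t) = e (PresentedGroup.of (a, t))
    rw [map_X]
    apply Subtype.ext
    rw [hS, he]
  refine ⟨s'.comp e.symm.toMonoidHom, fun g => ?_⟩
  have := congrArg (fun φ => φ (e.symm g)) hcomp
  simp only [MonoidHom.comp_apply, MulEquiv.coe_toMonoidHom, MulEquiv.apply_symm_apply] at this
  exact this

/-- a stem extension of `SL_n(K)` is trivial -/
theorem ker_eq_bot [Fintype K] (hn : 3 ≤ n) (hexc : ¬ Exc n (Fintype.card K))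
    (ρ : E →* Matrix.SpecialLinearGroup (Fin n) K) (hρ : Cfsg.IsStemExtension ρ) : ρ.ker = ⊥ := by
  obtain ⟨s, hs⟩ := exists_section hn hexc ρ hρ.1 hρ.2.1
  -- `E = s(G) * ker`, so the commutator subgroup lies in the range of `s`
  have hle : commutator E ≤ s.range := by
    rw [commutator_eq_closure, Subgroup.closure_le]
    rintro _ ⟨x, y, rfl⟩
    have hx : x * (s (ρ x))⁻¹ ∈ Subgroup.center E :=
      hρ.2.1 (by rw [MonoidHom.mem_ker, map_mul, map_inv, hs, mul_inv_cancel])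
    have hy : y * (s (ρ y))⁻¹ ∈ Subgroup.center E :=
      hρ.2.1 (by rw [MonoidHom.mem_ker, map_mul, map_inv, hs, mul_inv_cancel])
    have e1 : x = (x * (s (ρ x))⁻¹) * s (ρ x) := by group
    have e2 : y = (y * (s (ρ y))⁻¹) * s (ρ y) := by group
    have : ⁅x, y⁆ = ⁅s (ρ x), s (ρ y)⁆ := by
      conv_lhs => rw [e1, e2]
      rw [comm_mul_central_left hx, comm_mul_central_right hy]
    rw [SetLike.mem_coe, this, ← map_commutatorElement]
    exact ⟨_, rfl⟩
  rw [Subgroup.eq_bot_iff_forall]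
  intro x hx
  obtain ⟨g, rfl⟩ := hle (hρ.2.2 hx)
  have : ρ (s g) = 1 := hx
  rw [hs] at this
  rw [this, map_one]

end MAIN

end Cfsg.Agent.S2086P
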